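import Cfsg.Agent.H0.TT
import Cfsg.Agent.H6.MHS.D
import Cfsg.Agent.H0.MHSp.D
set_option maxRecDepth 100000
set_option Elab.async false
set_option linter.unusedSectionVars false
namespace H0.EHS
open H0 BN 
noncomputable def n11 : Net := (Net.cons (nat_lit 64) (nat_lit 0x44e0a48078902100) (Net.cons (nat_lit 32) (nat_lit 0x4548260e00000000002c0010) (Net.cons (nat_lit 16) (nat_lit 0xa1000000e1000000583400001888) (Net.cons (nat_lit 8) (nat_lit 0x68008a00a80040001c0011000c0050) (Net.cons (nat_lit 4) (nat_lit 0x8000c0008000c000801080c0b010e04) (Net.cons (nat_lit 2) (nat_lit 0x20200200233030123102202000001001) (Net.cons (nat_lit 1) (nat_lit 0x4004101450450010000100011000140) (Net.cons (nat_lit 2) (nat_lit 0x200200000020000200000000000) (Net.cons (nat_lit 4) (nat_lit 0x8000c0008000c000800080800000604) (Net.cons (nat_lit 8) (nat_lit 0x28008a00a80040001c001000000058) (Net.cons (nat_lit 16) (nat_lit 0xa1000000e1000000583400009080) (Net.cons (nat_lit 32) (nat_lit 0x4548260800000000002c0010) (Net.cons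 (nat_lit 64) (nat_lit 0x44e0a48068902100) Net.nil)))))))))))))
noncomputable def n12 : Net := (Net.cons (nat_lit 64) (nat_lit 0x606dee719e81920c) (Net.cons (nat_lit 32) (nat_lit 0x41b74144000000002fed9606) (Net.cons (nat_lit 16) (nat_lit 0xe14b0000b8a500000e9c000041b0) (Net.cons (nat_lit 8) (nat_lit 0x9007e0034005200e00087003e0022) (Net.cons (nat_lit 4) (nat_lit 0x803050e0e0808030206070d01040004) (Net.cons (nat_lit 2) (nat_lit 0x321022223202121000301210120020) (Net.cons (nat_lit 1) (nat_lit 0x540504441144101041404140000114) (Net.cons (nat_lit 2) (nat_lit 0x20002220220002002200020000200) (Net.cons (nat_lit 4) (nat_lit 0x40c000400040004060402040008) (Net.cons (nat_lit 8) (nat_lit 0x28005c0030001c00e0008800be0072) (Net.cons (nat_lit 16) (nat_lit 0xe1380000cec000008a94000019b0) (Net.cons (nat_lit 32) (nat_lit 0x41dfc748000000002bff9702) (Net.cons (nat_lit 64) (nat_lit 0x606dee794e980364) Net.nil)))))))))))))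
noncomputable def n13 : Net := (Net.cons (nat_lit 64) (nat_lit 0x606dee794e980364) (Net.cons (nat_lit 32) (nat_lit 0x55dfe709000000002bff9702) (Net.cons (nat_lit 16) (nat_lit 0xf07800001e4900008a94000013b2) (Net.cons (nat_lit 8) (nat_lit 0xd500370024002000e0001700b6008e) (Net.cons (nat_lit 4) (nat_lit 0xd08030a0e040e0200040b0107040800) (Net.cons (nat_lit 2) (nat_lit 0x22032310322022231002030123100002) (Net.cons (nat_lit 1) (nat_lit 0x41044050444404054041110101001500) (Net.cons (nat_lit 2) (nat_lit 0x22022000202002002000220002002000) (Net.cons (nat_lit 4) (nat_lit 0x800000a0200040c020602000c040400) (Net.cons (nat_lit 8) (nat_lit 0xf000040004002000e00018003600de) (Net.cons (nat_lit 16) (nat_lit 0xf1480000962400000e9c00004ab0) (Net.cons (nat_lit 32) (nat_lit 0x55be4104000000002fed9606) (Net.cons (nat_lit 64) (nat_lit 0x606dee719e81920c) Net.nil)))))))))))))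
noncomputable def n14 : Net := (Net.cons (nat_lit 64) (nat_lit 0xb7ce248c2e884380) (Net.cons (nat_lit 32) (nat_lit 0x52612e82000000009031d112) (Net.cons (nat_lit 16) (nat_lit 0x88cc000094c40000c2420000fdd0) (Net.cons (nat_lit 8) (nat_lit 0x24006c00dd0030005800fe00cc) (Net.cons (nat_lit 4) (nat_lit 0x606080c06020b070c00000d03080a06) (Net.cons (nat_lit 2) (nat_lit 0x13020223012031030210222000022312) (Net.cons (nat_lit 1) (nat_lit 0x5410005501415541401110040510501) (Net.cons (nat_lit 2) (nat_lit 0x20000002020020200220000020002) (Net.cons (nat_lit 4) (nat_lit 0x604080c060002000400000800080a04) (Net.cons (nat_lit 8) (nat_lit 0x20006c00380030005800fa008c) (Net.cons (nat_lit 16) (nat_lit 0x88cc000094c40000c2420000fdd0) (Net.cons (nat_lit 32) (nat_lit 0x52612e82000000009031d112) (Net.cons (nat_lit 64) (nat_lit 0xb7ce248c2c804380) Net.nil)))))))))))))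
noncomputable def n15 : Net := (Net.cons (nat_lit 64) (nat_lit 0xba03954f33294c02) (Net.cons (nat_lit 32) (nat_lit 0x19b911540000000069d7d0c9) (Net.cons (nat_lit 16) (nat_lit 0xcb00000cb8b00003a6e00004780) (Net.cons (nat_lit 8) (nat_lit 0x11005b00470044000d00a800be0075) (Net.cons (nat_lit 4) (nat_lit 0xe03010b090c0a040700000701020b08) (Net.cons (nat_lit 2) (nat_lit 0x12023002300322011102201030302022) (Net.cons (nat_lit 1) (nat_lit 0x111101104414011040401044401044) (Net.cons (nat_lit 2) (nat_lit 0x22000200202000000202000202020) (Net.cons (nat_lit 4) (nat_lit 0xc02000208000a06000000000c060800) (Net.cons (nat_lit 8) (nat_lit 0xca00800062000c0020002a0050) (Net.cons (nat_lit 16) (nat_lit 0xca0000089880000726c00004024) (Net.cons (nat_lit 32) (nat_lit 0x39bb94100000000029bf9a40) (Net.cons (nat_lit 64) (nat_lit 0xba0395436e4ce1be) Net.nil)))))))))))))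
noncomputable def n16 : Net := (Net.cons (nat_lit 64) (nat_lit 0xba0395436e4ce1be) (Net.cons (nat_lit 32) (nat_lit 0x2dff0ebc00000000d64275ab) (Net.cons (nat_lit 16) (nat_lit 0x142500006e030000500200006a64) (Net.cons (nat_lit 8) (nat_lit 0xf003d00740042002a000f00cd0028) (Net.cons (nat_lit 4) (nat_lit 0x906050700060104070604030204000d) (Net.cons (nat_lit 2) (nat_lit 0x20121001001300010210100202012021) (Net.cons (nat_lit 1) (nat_lit 0x11445014001401004510040144004004) (Net.cons (nat_lit 2) (nat_lit 0x22200000000202002000020002002000) (Net.cons (nat_lit 4) (nat_lit 0x2020e06000408040402020800040002) (Net.cons (nat_lit 8) (nat_lit 0x8000a80074004000bc000000c400a8) (Net.cons (nat_lit 16) (nat_lit 0x45c00003e000000070200002264) (Net.cons (nat_lit 32) (nat_lit 0x15fd9ff800000000962a3536) (Net.cons (nat_lit 64) (nat_lit 0xba03954f33294c02) Net.nil)))))))))))))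
noncomputable def n17 : Net := (Net.cons (nat_lit 64) (nat_lit 0x6010d0fee0720980) (Net.cons (nat_lit 32) (nat_lit 0x929074840000000064073538) (Net.cons (nat_lit 16) (nat_lit 0x72000000ce14000037100000a3e4) (Net.cons (nat_lit 8) (nat_lit 0xc20000002400b0003c00fc004e) (Net.cons (nat_lit 4) (nat_lit 0xc0e0e02000d0e080e02060806) (Net.cons (nat_lit 2) (nat_lit 0x30201231202013000220213000320200) (Net.cons (nat_lit 1) (nat_lit 0x50100450050105451111005154010441) (Net.cons (nat_lit 2) (nat_lit 0x200200000000002202000000000020) (Net.cons (nat_lit 4) (nat_lit 0x20e0e0a02000000080e02060806) (Net.cons (nat_lit 8) (nat_lit 0x64000000240088003c00fc0080) (Net.cons (nat_lit 16) (nat_lit 0x72000000ce04000035100000a2e4) (Net.cons (nat_lit 32) (nat_lit 0x92907484000000006c061538) (Net.cons (nat_lit 64) (nat_lit 0x6010d0fee0720980) Net.nil)))))))))))))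
noncomputable def n18 : Net := (Net.cons (nat_lit 64) (nat_lit 0x745bcba8bc962dad) (Net.cons (nat_lit 32) (nat_lit 0xae99eebe000000004b812ee0) (Net.cons (nat_lit 16) (nat_lit 0x2665000092cd0000d9a100002d3a) (Net.cons (nat_lit 8) (nat_lit 0xa60029006e005d0022000a00d800b5) (Net.cons (nat_lit 4) (nat_lit 0x40b02030d0a040808080a0507060c03) (Net.cons (nat_lit 2) (nat_lit 0x10022300212202002001213121100030) (Net.cons (nat_lit 1) (nat_lit 0x50114141114101501005445454101014) (Net.cons (nat_lit 2) (nat_lit 0x202202202002000000020202002000) (Net.cons (nat_lit 4) (nat_lit 0xc020200080a000a08080c080006080c) (Net.cons (nat_lit 8) (nat_lit 0x100062008800540022008800c8008c) (Net.cons (nat_lit 16) (nat_lit 0x8c64000083ee0000db240000883c) (Net.cons (nat_lit 32) (nat_lit 0xeec32f1800000000c2810af2) (Net.cons (nat_lit 64) (nat_lit 0x745bcbac1570d4b8) Net.nil)))))))))))))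
noncomputable def n19 : Net := (Net.cons (nat_lit 64) (nat_lit 0x8ba43453ea0f2b47) (Net.cons (nat_lit 32) (nat_lit 0xc2810af2000000001cae4cda) (Net.cons (nat_lit 16) (nat_lit 0x33ed0000883c0000aace0000ae48) (Net.cons (nat_lit 8) (nat_lit 0x6c002500c8007300c6003500aa0043) (Net.cons (nat_lit 4) (nat_lit 0x8040c0f0f06030c0c09050c02020602) (Net.cons (nat_lit 2) (nat_lit 0x12232012113003202223000202223200) (Net.cons (nat_lit 1) (nat_lit 0x54014111154044101414144111014441) (Net.cons (nat_lit 2) (nat_lit 0x20002202000002222000002022202) (Net.cons (nat_lit 4) (nat_lit 0x80c0c0e08060c080c06000002080002) (Net.cons (nat_lit 8) (nat_lit 0xa4002400d8004a0008005000a80024) (Net.cons (nat_lit 16) (nat_lit 0x3bc800002d3a0000a6fe00000e42) (Net.cons (nat_lit 32) (nat_lit 0x4b812ee0000000006cff0470) (Net.cons (nat_lit 64) (nat_lit 0x8ba434564369d252) Net.nil)))))))))))))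
noncomputable def n20 : Net := (Net.cons (nat_lit 64) (nat_lit 0x2f59849a2c53808) (Net.cons (nat_lit 32) (nat_lit 0xd015a97000000000b8608080) (Net.cons (nat_lit 16) (nat_lit 0xb0e5000060dc000044440000c9da) (Net.cons (nat_lit 8) (nat_lit 0x100098004e00380090009000970014) (Net.cons (nat_lit 4) (nat_lit 0x2050009040a040c0a08000602040f04) (Net.cons (nat_lit 2) (nat_lit 0x10202222030312030002302000021332) (Net.cons (nat_lit 1) (nat_lit 0x401140004000104114010544004101) (Net.cons (nat_lit 2) (nat_lit 0x202220000000000002000000000202) (Net.cons (nat_lit 4) (nat_lit 0xc040a040c0a00000600000004) (Net.cons (nat_lit 8) (nat_lit 0x100098004c00380090009000840002) (Net.cons (nat_lit 16) (nat_lit 0xa080000060d8000040440000ebd8) (Net.cons (nat_lit 32) (nat_lit 0xd015217000000000b8608080) (Net.cons (nat_lit 64) (nat_lit 0x2f59849a0c73800) Net.nil)))))))))))))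
noncomputable def n21 : Net := (Net.cons (nat_lit 64) (nat_lit 0x4a113b6039461500) (Net.cons (nat_lit 32) (nat_lit 0x4192782200000000aeea9890) (Net.cons (nat_lit 16) (nat_lit 0x2b2800009e4c00008a24000021c0) (Net.cons (nat_lit 8) (nat_lit 0x920040002a000800cc005e00ca002e) (Net.cons (nat_lit 4) (nat_lit 0xa00040607010c0a04020b0c0c0001) (Net.cons (nat_lit 2) (nat_lit 0x201000123121031002001130020200) (Net.cons (nat_lit 1) (nat_lit 0x51010101444111500540141405114140) (Net.cons (nat_lit 2) (nat_lit 0x22002000000002200020200) (Net.cons (nat_lit 4) (nat_lit 0xa000006000a0c02040a040c080000) (Net.cons (nat_lit 8) (nat_lit 0x920040002200080048004c00ca0008) (Net.cons (nat_lit 16) (nat_lit 0x232800000a4c00000a2800002100) (Net.cons (nat_lit 32) (nat_lit 0x4192782200000000aeea9890) (Net.cons (nat_lit 64) (nat_lit 0x4a113b6039461500) Net.nil)))))))))))))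
noncomputable def n22 : Net := (Net.cons (nat_lit 64) (nat_lit 0xe97240006fb81540) (Net.cons (nat_lit 32) (nat_lit 0xd7b48f040000000014042aa1) (Net.cons (nat_lit 16) (nat_lit 0xaa48000021280000b1800000db8b) (Net.cons (nat_lit 8) (nat_lit 0x5800460060007100b400aa00d20016) (Net.cons (nat_lit 4) (nat_lit 0xe0e0c0204040006080e0200080e0900) (Net.cons (nat_lit 2) (nat_lit 0x32022021200300320310201323230311) (Net.cons (nat_lit 1) (nat_lit 0x1104540041010500001140440001141) (Net.cons (nat_lit 2) (nat_lit 0x2002020000000000000200220002022) (Net.cons (nat_lit 4) (nat_lit 0xe0a0c0204040006080600000800040c) (Net.cons (nat_lit 8) (nat_lit 0x5800460060003000b400aa0040006c) (Net.cons (nat_lit 16) (nat_lit 0xa248000021280000b3800000998e) (Net.cons (nat_lit 32) (nat_lit 0xd7b48f040000000016042024) (Net.cons (nat_lit 64) (nat_lit 0xe97240006fb81540) Net.nil)))))))))))))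
noncomputable def nl2 : List Net := [n11, n12, n13, n14, n15, n16, n17, n18, n19, n20, n21, n22]
theorem nl2_ok : allL (Net.ok (nat_lit 128)) nl2 = true := by decide +kernel
noncomputable def nl : List Net := [H6M.MHS.n0, H6M.MHS.n1, H6M.MHS.n2, H6M.MHS.n3, H6M.MHS.n4, H6M.MHS.n5, H6M.MHS.n6, H6M.MHS.n7, H6M.MHS.n8, H6M.MHS.n9, H6M.MHS.n10, n11, n12, n13, n14, n15, n16, n17, n18, n19, n20, n21, n22]
theorem nl_ok : allL (Net.ok (nat_lit 128)) nl = true := allL_append H6M.MHS.nl_ok nl2_ok
noncomputable def R : Rep := mkRep (nat_lit 7) (nat_lit 128) nl (by decide +kernel) nl_ok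
def defs : List (List ℕ) := [[2, 0, 2, 2, 5, 4, 4, 5, 4, 4, 5, 7, 6, 7, 7, 6, 7, 6, 8, 9, 10, 10], [4, 4, 4, 5, 4, 4, 6, 7, 7, 6, 7, 6, 9, 9, 9, 10, 10], [12, 12, 12, 12], [11, 13, 11, 13, 11, 13, 11, 13, 11, 13], [11, 12, 12, 11, 12, 11, 13, 11, 13, 11, 13, 13], [15, 15, 15], [15, 14, 16, 14, 15, 14, 16], [16, 14, 16, 14, 16, 14, 15, 14, 16, 14, 15, 15, 14, 16, 14], [18, 18, 18, 18, 18], [17, 19, 17, 18, 17], [17, 18, 18, 17, 19, 19, 17], [18, 18, 17, 18, 18, 18, 17, 19, 19]]
theorem c0 : pairsB R [3, 18, 2, 1, 0] ((((H0.MHSp.B.map (sh 11)).map fun r => (r, ([] : List ℕ))).drop 0).take 157) = true := by decide +kernel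
theorem c1 : neB R [11] [] 0 14 0 = true := by decide +kernel
theorem c2 : defsChk R defs 11 = true := by decide +kernel
end H0.EHS
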